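import Mathlib

/-!
# Étale neighbourhoods of `Spec (A/I)`: lifting a section, a coprime factorisation, an idempotent
-/

universe u

open Polynomial

set_option linter.style.haveILetI false

namespace Groth.Agent.EtLift

/-- An étale algebra with a section over `A/I` can be shrunk to one which is trivial over `A/I`. -/
theorem exists_localization_of_section {A R' : Type u} [CommRing A] [CommRing R'] [Algebra A R'] [Algebra.Etale A R']
    (I : Ideal A) (φ : R' →ₐ[A] A ⧸ I) :
    ∃ g : R', Function.Bijective (algebraMap (A ⧸ I) (Localization.Away g ⧸ I.map (algebraMap A (Localization.Away g)))) ∧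
      ∀ x : R', Ideal.Quotient.mk (I.map (algebraMap A (Localization.Away g))) (algebraMap R' (Localization.Away g) x) =
        algebraMap (A ⧸ I) (Localization.Away g ⧸ I.map (algebraMap A (Localization.Away g))) (φ x) := by
  classical
  let K := I.map (algebraMap A R')
  have hK : ∀ x ∈ K, φ x = 0 := fun x hx => by
    have : K ≤ RingHom.ker φ := Ideal.map_le_iff_le_comap.mpr fun a ha => by
      rw [Ideal.mem_comap, RingHom.mem_ker, AlgHom.commutes, Ideal.Quotient.algebraMap_eq,
        Ideal.Quotient.eq_zero_iff_mem.mpr ha]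
    exact this hx
  let ψ : R' ⧸ K →ₐ[A] A ⧸ I := Ideal.Quotient.liftₐ K φ hK
  let J : Ideal (R' ⧸ K) := RingHom.ker ψ
  let c : A ⧸ I → R' ⧸ K := algebraMap (A ⧸ I) (R' ⧸ K)
  have hψc : ∀ t, ψ (c t) = t := fun t => by
    obtain ⟨a, rfl⟩ := Ideal.Quotient.mk_surjective t
    exact ψ.commutes a
  have hfg : J.FG := by
    obtain ⟨s, hs⟩ := (inferInstance : Algebra.FiniteType A R').out
    refine ⟨s.image fun x => Ideal.Quotient.mk K x - c (φ x), ?_⟩
    refine le_antisymm (Ideal.span_le.mpr fun y hy => ?_) fun y hy => ?_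
    · obtain ⟨x, _, rfl⟩ := Finset.mem_image.mp (Finset.mem_coe.mp hy)
      show ψ _ = 0
      rw [map_sub, hψc]
      exact sub_self _
    · obtain ⟨x, rfl⟩ := Ideal.Quotient.mk_surjective y
      suffices h : Ideal.Quotient.mk K x - c (φ x) ∈
          Ideal.span (↑(s.image fun x => Ideal.Quotient.mk K x - c (φ x)) : Set (R' ⧸ K)) by
        have h0 : φ x = 0 := hy
        simpa [h0, c] using h
      have hx : x ∈ Algebra.adjoin A (s : Set R') := hs ▸ trivial
      clear hy
      induction hx using Algebra.adjoin_induction with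
      | mem z hz => exact Ideal.subset_span (Finset.mem_image_of_mem _ hz)
      | algebraMap a =>
        rw [AlgHom.commutes]
        have : Ideal.Quotient.mk K (algebraMap A R' a) - c (algebraMap A (A ⧸ I) a) = 0 := sub_self _
        rw [this]; exact zero_mem _
      | add a b _ _ ha hb =>
        have := add_mem ha hb
        simp only [map_add, c] at this ⊢
        convert! this using 1; ring
      | mul a b _ _ ha hb =>
        have := add_mem (Ideal.mul_mem_left _ (Ideal.Quotient.mk K a) hb) (Ideal.mul_mem_left _ (c (φ b)) ha)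
        simp only [map_mul, c] at this ⊢
        convert! this using 1; ring
  have hidem : IsIdempotentElem J := by
    refine le_antisymm Ideal.mul_le_left fun y hy => ?_
    let J2 := J * J
    let f₁ : R' →ₐ[A] (R' ⧸ K) ⧸ J2 := (Ideal.Quotient.mkₐ A J2).comp (Ideal.Quotient.mkₐ A K)
    let f₂ : R' →ₐ[A] (R' ⧸ K) ⧸ J2 :=
      ((Ideal.Quotient.mkₐ A J2).comp (IsScalarTower.toAlgHom A (A ⧸ I) (R' ⧸ K))).comp φ
    have hnil : IsNilpotent (J.map (Ideal.Quotient.mk J2)) := ⟨2, by
      rw [← Ideal.map_pow, Ideal.zero_eq_bot, Ideal.map_eq_bot_iff_le_ker, Ideal.mk_ker, sq]⟩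
    have h12 : f₁ = f₂ := Algebra.FormallyUnramified.ext (I := J.map (Ideal.Quotient.mk J2)) hnil fun x => by
      have h : Ideal.Quotient.mk K x - c (φ x) ∈ J := by
        show ψ _ = 0
        rw [map_sub, hψc]
        exact sub_self _
      rw [Ideal.Quotient.eq]
      have h' := Ideal.mem_map_of_mem (Ideal.Quotient.mk J2) h
      rw [map_sub] at h'
      exact h'
    obtain ⟨x, rfl⟩ := Ideal.Quotient.mk_surjective y
    have hx := AlgHom.congr_fun h12 x
    have h0 : φ x = 0 := hy
    simp only [f₁, f₂, AlgHom.comp_apply, h0, map_zero, Ideal.Quotient.mkₐ_eq_mk] at hx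
    exact Ideal.Quotient.eq_zero_iff_mem.mp hx
  obtain ⟨e, he, hJe⟩ := (Ideal.isIdempotentElem_iff_of_fg J hfg).mp hidem
  obtain ⟨e', rfl⟩ := Ideal.Quotient.mk_surjective e
  have hee : e' * (1 - e') ∈ K := by
    rw [← Ideal.Quotient.eq_zero_iff_mem, map_mul, map_sub, map_one, mul_sub, mul_one, he, sub_self]
  have hφe : φ e' = 0 := by
    have h1 : Ideal.Quotient.mk K e' ∈ J := by rw [hJe]; exact Submodule.mem_span_singleton_self _
    exact h1
  let g := 1 - e'
  let L := Localization.Away g
  let ρ := algebraMap R' L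
  let mk := Ideal.Quotient.mk (I.map (algebraMap A L))
  let γ := algebraMap (A ⧸ I) (L ⧸ I.map (algebraMap A L))
  have hgu : IsUnit (φ g) := by simp [g, hφe]
  let φ' : L →ₐ[A] A ⧸ I := IsLocalization.Away.liftAlgHom (f := φ) g hgu
  have hφ' : ∀ x, φ' (ρ x) = φ x := fun x => IsLocalization.Away.lift_eq g hgu x
  have hKL : ∀ x ∈ K, mk (ρ x) = 0 := fun x hx => by
    rw [Ideal.Quotient.eq_zero_iff_mem, IsScalarTower.algebraMap_eq A R' L, ← Ideal.map_map]
    exact Ideal.mem_map_of_mem _ hx
  have he0 : mk (ρ e') = 0 := by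
    have h := hKL _ hee
    rw [map_mul, map_mul] at h
    exact ((IsLocalization.Away.algebraMap_isUnit (S := L) g).map mk).mul_left_eq_zero.mp h
  have key : ∀ x, mk (ρ x) = γ (φ x) := fun x => by
    obtain ⟨a, ha⟩ := Ideal.Quotient.mk_surjective (φ x)
    have h1 : Ideal.Quotient.mk K (x - algebraMap A R' a) ∈ J := by
      show φ (x - algebraMap A R' a) = 0
      rw [map_sub, AlgHom.commutes, Ideal.Quotient.algebraMap_eq, ha, sub_self]
    rw [hJe, Ideal.submodule_span_eq, Ideal.mem_span_singleton] at h1
    obtain ⟨r, hr⟩ := h1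
    obtain ⟨r, rfl⟩ := Ideal.Quotient.mk_surjective r
    rw [← map_mul, Ideal.Quotient.eq] at hr
    have h2 := hKL _ hr
    simp only [map_sub, map_mul, he0, zero_mul, sub_zero, sub_eq_zero] at h2
    rw [h2, ← ha, ← IsScalarTower.algebraMap_apply A R' L]
    rfl
  refine ⟨g, ⟨?_, ?_⟩, key⟩
  · intro s t hst
    obtain ⟨a, rfl⟩ := Ideal.Quotient.mk_surjective s
    obtain ⟨b, rfl⟩ := Ideal.Quotient.mk_surjective t
    have h1 : I.map (algebraMap A L) ≤ RingHom.ker φ' := Ideal.map_le_iff_le_comap.mpr fun z hz => by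
      rw [Ideal.mem_comap, RingHom.mem_ker, AlgHom.commutes, Ideal.Quotient.algebraMap_eq,
        Ideal.Quotient.eq_zero_iff_mem.mpr hz]
    have h2 : algebraMap A L a - algebraMap A L b ∈ I.map (algebraMap A L) := Ideal.Quotient.eq.mp hst
    have h3 : φ' (algebraMap A L a - algebraMap A L b) = 0 := h1 h2
    rw [map_sub, AlgHom.commutes, AlgHom.commutes, sub_eq_zero] at h3
    exact h3
  · intro y
    obtain ⟨l, rfl⟩ := Ideal.Quotient.mk_surjective y
    obtain ⟨x, ⟨_, n, rfl⟩, rfl⟩ := IsLocalization.exists_mk'_eq (Submonoid.powers g) l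
    refine ⟨φ x, ?_⟩
    have h := congrArg mk (IsLocalization.mk'_spec L x (⟨g ^ n, n, rfl⟩ : Submonoid.powers g))
    rw [map_mul] at h
    have h1 : mk (ρ (g ^ n)) = 1 := by rw [map_pow, map_pow, map_sub, map_one, map_sub, map_one, he0, sub_zero, one_pow]
    rw [h1, mul_one] at h
    exact (key x).symm.trans h.symm

theorem map_map_congr {R L B C : Type*} [CommRing R] [CommRing L] [CommRing B] [CommRing C] (G : R[X]) (g : B[X])
    (φ : R →+* B) (ρ : R →+* L) (m : L →+* C) (γ : B →+* C) (hG : G.map φ = g) (hw : ∀ x, m (ρ x) = γ (φ x)) :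
    (G.map ρ).map m = g.map γ := by
  rw [← hG, Polynomial.map_map, Polynomial.map_map]
  exact congrArg (fun t => Polynomial.map t G) (RingHom.ext hw)

theorem isCoprime_map {R S : Type*} [CommRing R] [CommRing S] (f : R →+* S) (p q : R[X]) (h : IsCoprime p q) :
    IsCoprime (p.map f) (q.map f) := h.map (mapRingHom f)

/-- Coprime monic factorisations lift to an étale neighbourhood. -/
theorem exists_lift_factorization {A : Type u} [CommRing A] (I : Ideal A) (f : A[X]) (hf : f.Monic)
    (g h : (A ⧸ I)[X]) (hg : g.Monic) (hh : h.Monic) (hcop : IsCoprime g h)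
    (hfgh : f.map (Ideal.Quotient.mk I) = g * h) :
    ∃ (A' : Type u) (_ : CommRing A') (_ : Algebra A A'), Algebra.Etale A A' ∧
      Function.Bijective (algebraMap (A ⧸ I) (A' ⧸ I.map (algebraMap A A'))) ∧
      ∃ g' h' : A'[X], g'.Monic ∧ h'.Monic ∧ f.map (algebraMap A A') = g' * h' ∧ IsCoprime g' h' ∧
        g'.map (Ideal.Quotient.mk (I.map (algebraMap A A'))) =
          g.map (algebraMap (A ⧸ I) (A' ⧸ I.map (algebraMap A A'))) ∧
        h'.map (Ideal.Quotient.mk (I.map (algebraMap A A'))) =
          h.map (algebraMap (A ⧸ I) (A' ⧸ I.map (algebraMap A A'))) := by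
  rcases subsingleton_or_nontrivial (A ⧸ I) with hI | hI
  · have : Subsingleton (Localization.Away (0 : A)) := IsLocalization.subsingleton (M := Submonoid.powers (0 : A))
      (Submonoid.mem_powers 0)
    refine ⟨Localization.Away (0 : A), inferInstance, inferInstance, Algebra.Etale.of_isLocalizationAway (0 : A),
      ⟨fun a b _ => Subsingleton.elim a b, fun y => ⟨0, Subsingleton.elim _ _⟩⟩, 1, 1, monic_one, monic_one,
      Subsingleton.elim _ _, isCoprime_one_left, Subsingleton.elim _ _, Subsingleton.elim _ _⟩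
  · have hn : f.natDegree = g.natDegree + h.natDegree := by
      have := congrArg natDegree hfgh
      rwa [hf.natDegree_map, hg.natDegree_mul hh] at this
    let R' := UniversalCoprimeFactorizationRing g.natDegree h.natDegree hn (.mk f hf rfl)
    let q : {q : MonicDegreeEq (A ⧸ I) g.natDegree × MonicDegreeEq (A ⧸ I) h.natDegree //
        q.1.1 * q.2.1 = f.map (algebraMap A (A ⧸ I)) ∧ IsCoprime q.1.1 q.2.1} :=
      ⟨(.mk g hg rfl, .mk h hh rfl), hfgh.symm, hcop⟩
    let φ : R' →ₐ[A] A ⧸ I := (UniversalCoprimeFactorizationRing.homEquiv _ _ _ hn _).symm q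
    have hq : UniversalCoprimeFactorizationRing.homEquiv (A ⧸ I) g.natDegree h.natDegree hn (.mk f hf rfl) φ = q :=
      Equiv.apply_symm_apply _ _
    obtain ⟨w, hbij, hw⟩ := exists_localization_of_section I φ
    let L := Localization.Away w
    have : Algebra.Etale R' L := Algebra.Etale.of_isLocalizationAway w
    let G := UniversalCoprimeFactorizationRing.factor₁ g.natDegree h.natDegree hn (.mk f hf rfl)
    let H := UniversalCoprimeFactorizationRing.factor₂ g.natDegree h.natDegree hn (.mk f hf rfl)
    have hG : G.1.map φ.toRingHom = g := by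
      have := congrArg (fun z => z.1.1.1) hq
      simpa [UniversalCoprimeFactorizationRing.homEquiv, UniversalFactorizationRing.homEquiv, G,
        UniversalCoprimeFactorizationRing.factor₁, Polynomial.map_map, q, AlgHom.comp_toRingHom] using this
    have hH : H.1.map φ.toRingHom = h := by
      have := congrArg (fun z => z.1.2.1) hq
      simpa [UniversalCoprimeFactorizationRing.homEquiv, UniversalFactorizationRing.homEquiv, H,
        UniversalCoprimeFactorizationRing.factor₂, Polynomial.map_map, q, AlgHom.comp_toRingHom] using this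
    refine ⟨L, inferInstance, inferInstance, Algebra.Etale.comp A R' L, hbij,
      G.1.map (algebraMap R' L), H.1.map (algebraMap R' L), G.monic.map _, H.monic.map _, ?_, ?_, ?_, ?_⟩
    · rw [← Polynomial.map_mul, UniversalCoprimeFactorizationRing.factor₁_mul_factor₂]
      show f.map (algebraMap A L) = (f.map (algebraMap A R')).map (algebraMap R' L)
      rw [Polynomial.map_map, ← IsScalarTower.algebraMap_eq]
    · exact isCoprime_map (algebraMap R' L) G.1 H.1
        (UniversalCoprimeFactorizationRing.isCoprime_factor₁_factor₂ g.natDegree h.natDegree hn (.mk f hf rfl))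
    · exact map_map_congr G.1 g _ _ _ _ hG hw
    · exact map_map_congr H.1 h _ _ _ _ hH hw

/-- If `Q(T) ≡ Tⁿ` modulo `I`, then over an étale neighbourhood there is a polynomial which is
idempotent modulo `Q(X² - X)` and congruent to `X` modulo `(I, X² - X)`. -/
theorem exists_idempotent_poly {A : Type u} [CommRing A] (I : Ideal A) (Q : A[X]) (hQ : Q.Monic) (n : ℕ)
    (hn : Q.map (Ideal.Quotient.mk I) = X ^ n) :
    ∃ (A' : Type u) (_ : CommRing A') (_ : Algebra A A'), Algebra.Etale A A' ∧
      Function.Bijective (algebraMap (A ⧸ I) (A' ⧸ I.map (algebraMap A A'))) ∧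
      ∃ P : A'[X], P * P - P ∈ Ideal.span {((Q.comp (X * X - X)).map (algebraMap A A'))} ∧
        P - X ∈ Ideal.span {X * X - X} ⊔ (I.map (algebraMap A A')).map C := by
  rcases subsingleton_or_nontrivial (A ⧸ I) with hI | hI
  · obtain ⟨A', i1, i2, i3, i4, -⟩ := exists_lift_factorization I (1 : A[X]) monic_one 1 1 monic_one monic_one
      isCoprime_one_left (Subsingleton.elim _ _)
    refine ⟨A', i1, i2, i3, i4, 0, by simp, ?_⟩
    have hsub : Subsingleton (A' ⧸ I.map (algebraMap A A')) := i4.surjective.subsingleton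
    have : (I.map (algebraMap A A')).map (C : A' →+* A'[X]) = ⊤ := by
      rw [Ideal.Quotient.subsingleton_iff.mp hsub, Ideal.map_top]
    rw [this, sup_top_eq]; trivial
  · have : Nontrivial A := (Ideal.Quotient.mk I).domain_nontrivial
    have hm : (X * X - X : A[X]).Monic := by
      rw [← sq]; exact monic_X_pow_sub (degree_X_le.trans_lt (by norm_num))
    have hdeg : (X * X - X : A[X]).natDegree = 2 := by
      rw [natDegree_sub_eq_left_of_natDegree_lt] <;> simp
    let g : (A ⧸ I)[X] := X ^ (n + 1)
    let h : (A ⧸ I)[X] := (X - C 1) ^ (n + 1)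
    have hgm : g.Monic := monic_X_pow _
    have hhm : h.Monic := (monic_X_sub_C 1).pow _
    have hcop : IsCoprime g h := IsCoprime.pow ⟨1, -1, by simp⟩
    have hfm : ((Q * X).comp (X * X - X)).Monic := (hQ.mul monic_X).comp hm (by omega)
    have hfgh : ((Q * X).comp (X * X - X)).map (Ideal.Quotient.mk I) = g * h := by
      rw [map_comp, Polynomial.map_mul, hn, map_X, ← pow_succ, Polynomial.map_sub, Polynomial.map_mul, map_X,
        X_pow_comp, ← mul_pow]
      simp [mul_sub]
    obtain ⟨A', i1, i2, i3, i4, g', h', -, -, hgh', ⟨a, b, hab⟩, hg', hh'⟩ :=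
      exists_lift_factorization I _ hfm g h hgm hhm hcop hfgh
    refine ⟨A', i1, i2, i3, i4, a * g', Ideal.mem_span_singleton.mpr ⟨-(a * b) * (X * X - X), ?_⟩, ?_⟩
    · have h1 : b * h' = 1 - a * g' := eq_sub_of_add_eq' hab
      rw [mul_comp, X_comp, Polynomial.map_mul, Polynomial.map_sub, Polynomial.map_mul, map_X] at hgh'
      linear_combination (a * g') * h1 + (a * b) * hgh'
    · set N := Ideal.span {(X * X - X : A'[X])} ⊔ (I.map (algebraMap A A')).map C with hN
      let T := Ideal.Quotient.mk N
      have hC : ∀ z : A'[X], z.map (Ideal.Quotient.mk (I.map (algebraMap A A'))) = 0 → T z = 0 := fun z hz => by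
        refine Ideal.Quotient.eq_zero_iff_mem.mpr (Ideal.mem_sup_right ?_)
        rw [Ideal.mem_map_C_iff]
        intro k
        rw [← Ideal.Quotient.eq_zero_iff_mem, ← coeff_map, hz, coeff_zero]
      have hx : T X * T X = T X := by
        rw [← map_mul, Ideal.Quotient.eq]
        exact Ideal.mem_sup_left (Ideal.mem_span_singleton_self _)
      have hxp : ∀ k : ℕ, T X ^ (k + 1) = T X := fun k => by
        induction k with
        | zero => simp
        | succ k ih => rw [pow_succ, ih, hx]
      have hg2 : T g' = T X := by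
        rw [← hxp n, ← map_pow, ← sub_eq_zero, ← map_sub]
        exact hC _ (by rw [Polynomial.map_sub, hg']; simp [g])
      have hh2 : T h' * T X = 0 := by
        have h1 : T h' = (T X - 1) ^ (n + 1) := by
          rw [← map_one T, ← map_sub, ← map_pow, ← sub_eq_zero, ← map_sub]
          exact hC _ (by rw [Polynomial.map_sub, hh']; simp [h])
        rw [h1, pow_succ, mul_assoc, sub_mul, one_mul, hx, sub_self, mul_zero]
      have h3 := congrArg (fun z => T z * T X) hab
      simp only [map_add, map_mul, map_one, hg2, one_mul, add_mul, mul_assoc, hh2, mul_zero, add_zero, hx] at h3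
      rw [← Ideal.Quotient.eq]
      show T (a * g') = T X
      rw [map_mul, hg2, h3]

end Groth.Agent.EtLift
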